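import Groth.Agent.H23.SpGysin
import Groth.Agent.SchClosure.Basic
import Groth.Agent.CycLib.Flat
import Groth.Agent.FibDim.FlatBC
import Groth.Agent.FibDim.Minimal
import Mathlib.RingTheory.Flat.TorsionFree

/-! Equidimensionality of the fibres of flat schemes over discrete valuation rings. -/

set_option autoImplicit false
set_option linter.style.haveILetI false
set_option backward.isDefEq.respectTransparency false
set_option backward.isDefEq.respectTransparency.types false

universe u

open AlgebraicGeometry CategoryTheory CategoryTheory.Limits TopologicalSpace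

namespace Groth.Agent.H9FlatEquidim

open Groth.Agent

theorem ker_eq_bot_toImage {X Y : Scheme.{u}} (g : X ⟶ Y) [QuasiCompact g] : g.toImage.ker = ⊥ := by
  ext W s
  rw [Scheme.Hom.ker_apply, RingHom.mem_ker]
  constructor
  · intro hs
    have hinj : Function.Injective (g.toImage.app W.1) :=
      TopCat.Presheaf.app_injective_of_stalkFunctor_map_injective (F := g.image.sheaf) g.toImage.c W.1
        fun x _ => g.stalkFunctor_toImage_injective x
    have : s = 0 := hinj (hs.trans (map_zero _).symm)
    rw [this]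
    exact zero_mem _
  · intro hs
    have : s = 0 := by simpa using hs
    rw [this, map_zero]

theorem exists_maximal_generization {W : Scheme.{u}} (z : W) : ∃ ξ, ξ ⤳ z ∧ ∀ v, v ⤳ ξ → v = ξ := by
  let T := irreducibleComponent z
  have hT : IsIrreducible T := isIrreducible_irreducibleComponent
  refine ⟨hT.genericPoint, hT.isGenericPoint_genericPoint_closure.specializes
    (subset_closure mem_irreducibleComponent), fun v hv => (hv.antisymm ?_).eq⟩
  have h1 : T ⊆ closure {v} := by
    refine (subset_closure.trans_eq hT.isGenericPoint_genericPoint_closure.def.symm).trans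
      (closure_minimal ?_ isClosed_closure)
    exact Set.singleton_subset_iff.2 (specializes_iff_mem_closure.1 hv)
  have h2 : closure ({v} : Set W) = T :=
    eq_irreducibleComponent isIrreducible_singleton.closure.isPreirreducible h1
  refine hT.isGenericPoint_genericPoint_closure.specializes ?_
  rw [isClosed_irreducibleComponent.closure_eq]
  exact h2.subset (subset_closure rfl)

theorem eq_of_component {S : Scheme.{u}} {a b : S} (ha : closure ({a} : Set S) ∈ irreducibleComponents S)
    (h : b ⤳ a) : b = a := by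
  have h1 : closure ({a} : Set S) ⊆ closure {b} :=
    closure_minimal (Set.singleton_subset_iff.2 (specializes_iff_mem_closure.1 h)) isClosed_closure
  have h2 := ha.2 isIrreducible_singleton.closure h1
  exact (h.antisymm (specializes_iff_mem_closure.2 (h2 (subset_closure rfl)))).eq

theorem rd_eq_zero_preimmersion {W W' : Scheme.{u}} (i : W ⟶ W') [IsPreimmersion i] [LocallyOfFiniteType i] (w : W) :
    FibDim.rd i w = 0 := by
  have h := FibDim.rd_eq_rdeg i w
  rw [VarDim.rdeg_preimmersion i w] at h
  exact_mod_cast h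

theorem rd_preimmersion_comp {W W' T : Scheme.{u}} (i : W ⟶ W') [IsPreimmersion i] [LocallyOfFiniteType i]
    (q : W' ⟶ T) [LocallyOfFiniteType q] (w : W) : FibDim.rd (i ≫ q) w = FibDim.rd q (i w) := by
  rw [FibDim.rd_comp, rd_eq_zero_preimmersion i, add_zero]

theorem fibreDimAt_eq {W T : Scheme.{u}} (f : W ⟶ T) [LocallyOfFiniteType f] (r : ℕ)
    (h : ∀ z, FibDim.FibMax f z → FibDim.rd f z = r) (w : W) :
    FlatMor.fibreDimAt f w = r := by
  obtain ⟨z, -, -, hz, he⟩ := FibDim.exists_fibMax_generization f w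
  rw [he, h z hz]
  rfl

variable {R : Type u} [CommRing R] [IsDomain R] [IsDiscreteValuationRing R]

theorem flat_of_field {L : Type u} [Field L] (m : Spec (CommRingCat.of L) ⟶ Spec (CommRingCat.of R))
    (hm : m (IsLocalRing.closedPoint L) = H23.SpGysin.η R) : Flat m := by
  obtain ⟨φ, rfl⟩ := Spec.map_surjective m
  rw [Flat.SpecMap_iff]
  have hinj : Function.Injective φ.hom := by
    rw [RingHom.injective_iff_ker_eq_bot]
    have h1 := congrArg PrimeSpectrum.asIdeal hm
    rw [H23.SpGysin.η_asIdeal] at h1
    rw [← h1]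
    exact congrArg (Ideal.comap φ.hom) (IsLocalRing.maximalIdeal_eq_bot (R := L)).symm
  letI := φ.hom.toAlgebra
  show Module.Flat R L
  rw [IsDedekindDomain.flat_iff_torsion_eq_bot, eq_bot_iff]
  rintro x ⟨⟨a, ha⟩, hax⟩
  have hax' : φ.hom a * x = 0 := hax
  rcases mul_eq_zero.1 hax' with h | h
  · exact absurd (hinj (h.trans (map_zero _).symm)) (nonZeroDivisors.ne_zero ha)
  · exact h

theorem uc_stalk (y : Spec (CommRingCat.of R)) :
    CAlg.IsUniversallyCatenary ((Spec (CommRingCat.of R)).presheaf.stalk y) := (H23.SpGysin.isSetup R).2.1 y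

theorem map_maximal {W : Scheme.{u}} (q : W ⟶ Spec (CommRingCat.of R)) [Flat q] {ξ : W}
    (hξ : ∀ v, v ⤳ ξ → v = ξ) : q ξ = H23.SpGysin.η R := by
  have h : H23.SpGysin.η R ⤳ q ξ :=
    (PrimeSpectrum.le_iff_specializes (H23.SpGysin.η R : PrimeSpectrum R) (q ξ : PrimeSpectrum R)).1
      (show (H23.SpGysin.η R : PrimeSpectrum R).asIdeal ≤ _ by rw [H23.SpGysin.η_asIdeal]; exact bot_le)
  obtain ⟨v, hv, hqv⟩ := CycLib.exists_generization q h
  rw [← hqv, hξ v hv]

/-- Over a discrete valuation ring, the fibrewise dimension of a flat scheme is read off at the generic points. -/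
theorem rd_fibMax {W : Scheme.{u}} (q : W ⟶ Spec (CommRingCat.of R)) [Flat q] [LocallyOfFiniteType q]
    (r : ℕ) (h : ∀ ξ, (∀ v, v ⤳ ξ → v = ξ) → FibDim.rd q ξ = r) (z : W) (hz : FibDim.FibMax q z) :
    FibDim.rd q z = r := by
  obtain ⟨ξ, hξz, hξ⟩ := exists_maximal_generization z
  let g := W.fromSpecResidueField ξ
  haveI : IsLocallyNoetherian W := LocallyOfFiniteType.isLocallyNoetherian q
  haveI : Subsingleton ↥(Spec (W.residueField ξ)) := FibDim.subsingleton_spec_field (W.residueField ξ)
  haveI : QuasiCompact g := (quasiCompact_iff g).2 fun U _ _ => (Set.toFinite _).isCompact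
  haveI : Flat (g.toImage ≫ g.imageι ≫ q) := by
    rw [Scheme.Hom.toImage_imageι_assoc]
    refine flat_of_field (L := W.residueField ξ) _ ?_
    rw [Scheme.Hom.comp_apply]
    exact (congrArg q (Scheme.fromSpecResidueField_apply (X := W) ξ _)).trans (map_maximal q hξ)
  haveI : Flat (g.imageι ≫ q) := SchClosure.flat_of_ker_eq_bot g.toImage _ (ker_eq_bot_toImage g)
  let pt : Spec (W.residueField ξ) := IsLocalRing.closedPoint (W.residueField ξ)
  have hc₀ : ∀ c, g.toImage pt ⤳ c := fun c => specializes_iff_mem_closure.2 (by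
    have hd : Dense (Set.range g.toImage) := g.toImage.denseRange
    rw [show Set.range g.toImage = {g.toImage pt} from
      Set.ext fun x => ⟨fun ⟨t, ht⟩ => ht ▸ congrArg g.toImage (Subsingleton.elim t pt), fun hx => ⟨pt, hx.symm⟩⟩] at hd
    exact hd c)
  haveI : IrreducibleSpace ↥g.image := by
    rw [irreducibleSpace_def, Set.top_eq_univ,
      show (Set.univ : Set g.image) = closure {g.toImage pt} from
        (Set.eq_univ_of_forall fun c => specializes_iff_mem_closure.1 (hc₀ c)).symm]
    exact isIrreducible_singleton.closure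
  have hι : g.imageι (g.toImage pt) = ξ := by
    rw [← Scheme.Hom.comp_apply, Scheme.Hom.toImage_imageι]
    exact Scheme.fromSpecResidueField_apply _ _
  obtain ⟨c, rfl⟩ : z ∈ Set.range g.imageι := by
    have hmem := hξz.mem_closed g.imageι.isClosedEmbedding.isClosed_range ⟨_, hι⟩
    exact hmem
  have hgen : genericPoint ↥g.image = g.toImage pt :=
    ((genericPoint_spec ↥g.image).specializes (Set.mem_univ _)).antisymm (hc₀ _) |>.eq
  have hmax : FibDim.FibMax (g.imageι ≫ q) c := fun c' hc' he =>
    g.imageι.isEmbedding.injective (hz _ (hc'.map g.imageι.continuous) he)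
  have := CycLib.rd_eq_generic (g.imageι ≫ q) hmax (uc_stalk _)
  rw [rd_preimmersion_comp, rd_preimmersion_comp, hgen, hι, h ξ hξ] at this
  exact this

/-- The equidimensionality statement after an arbitrary base change. -/
theorem pullback_equidim {W S' : Scheme.{u}} (q : W ⟶ Spec (CommRingCat.of R)) [Flat q] [LocallyOfFiniteType q]
    (g : S' ⟶ Spec (CommRingCat.of R)) (r : ℕ) (h : ∀ ξ, (∀ v, v ⤳ ξ → v = ξ) → FibDim.rd q ξ = r) :
    (∀ w : ↥(pullback q g), FlatMor.fibreDimAt (pullback.snd q g) w = r) ∧
      ∀ C ∈ irreducibleComponents ↥(pullback q g),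
        closure ((pullback.snd q g).base '' C) ∈ irreducibleComponents ↥S' := by
  refine ⟨fibreDimAt_eq _ r fun z hz => ?_, fun C hC => ?_⟩
  · rw [FibDim.rd_baseChange_eq_of_minimal (IsPullback.of_hasPullback q g) z fun w hw _ h2 => hz w hw h2]
    exact rd_fibMax q r h _ (FibDim.fibMax_of_baseChange (IsPullback.of_hasPullback q g) hz)
  · let f := pullback.snd q g
    have hCc : IsClosed C := isClosed_of_mem_irreducibleComponents C hC
    let ξ := hC.1.genericPoint
    have hξ : closure ({ξ} : Set ↥(pullback q g)) = C := by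
      rw [hC.1.isGenericPoint_genericPoint_closure.def, hCc.closure_eq]
    have himg : closure (f '' C) = closure {f ξ} := by
      refine subset_antisymm (closure_minimal ?_ isClosed_closure) (closure_mono ?_)
      · rintro _ ⟨c, hc, rfl⟩
        rw [← hξ] at hc
        exact specializes_iff_mem_closure.1 ((specializes_iff_mem_closure.2 hc).map f.continuous)
      · exact Set.singleton_subset_iff.2 ⟨ξ, hξ ▸ subset_closure rfl, rfl⟩
    show closure (f '' C) ∈ _
    rw [himg]
    refine ⟨isIrreducible_singleton.closure, fun T hT hle => ?_⟩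
    have hTη : f ξ ∈ closure T := subset_closure (hle (subset_closure rfl))
    have h1 : hT.genericPoint ⤳ f ξ := hT.isGenericPoint_genericPoint_closure.specializes hTη
    obtain ⟨ξ', hξ', hfξ'⟩ := CycLib.exists_generization f h1
    have he : ξ' = ξ := eq_of_component (hξ.symm ▸ hC) hξ'
    rw [he] at hfξ'
    intro t ht
    rw [hfξ']
    exact specializes_iff_mem_closure.1 (hT.isGenericPoint_genericPoint_closure.specializes (subset_closure ht))

theorem rd_generic_closure {X S Z : Scheme.{u}} (p : X ⟶ S) [LocallyOfFiniteType p] (z : X)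
    (hz : closure ({p z} : Set S) ∈ irreducibleComponents ↥S) (r : ℕ)
    (hr : topologicalKrullDim ↥(closure ({p.asFiber z} : Set ↥(p.fiber (p z)))) = r)
    (ι : Z ⟶ X) [IsClosedImmersion ι] (hZ : Set.range ι = closure {z})
    (x : Spec (CommRingCat.of R) ⟶ S)
    (hx : closure ({x (H23.SpGysin.η R)} : Set S) ∈ irreducibleComponents ↥S)
    (w : ↥(pullback (ι ≫ p) (Spec.map (CommRingCat.ofHom (algebraMap R (FractionRing R))) ≫ x)))
    (hw : ∀ v, v ⤳ w → v = w) :
    FibDim.rd (pullback.snd (ι ≫ p) (Spec.map (CommRingCat.ofHom (algebraMap R (FractionRing R))) ≫ x)) w = r := by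
  let j := Spec.map (CommRingCat.ofHom (algebraMap R (FractionRing R)))
  have hj : ∀ t, j t = H23.SpGysin.η R := fun t => PrimeSpectrum.ext (by
    rw [H23.SpGysin.η_asIdeal]
    have ht : (t : PrimeSpectrum (FractionRing R)).asIdeal = ⊥ :=
      (Ideal.eq_bot_or_top _).resolve_right (PrimeSpectrum.isPrime (t : PrimeSpectrum (FractionRing R))).ne_top
    show Ideal.comap (algebraMap R (FractionRing R)) (t : PrimeSpectrum (FractionRing R)).asIdeal = ⊥
    rw [ht]
    exact (RingHom.injective_iff_ker_eq_bot _).1 (IsFractionRing.injective R (FractionRing R)))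
  let h := IsPullback.of_hasPullback (ι ≫ p) (j ≫ x)
  let π := pullback.fst (ι ≫ p) (j ≫ x)
  let s := pullback.snd (ι ≫ p) (j ≫ x)
  have hmax : FibDim.FibMax s w := FibDim.fibMax_of_maximal s hw
  obtain ⟨ζ, hζ⟩ : z ∈ Set.range ι := hZ ▸ subset_closure rfl
  have hζgen : ∀ c, ζ ⤳ c := fun c => ι.isEmbedding.isInducing.specializes_iff.1 (by
    rw [hζ]; exact specializes_iff_mem_closure.2 (hZ ▸ ⟨c, rfl⟩))
  have hv : (ι ≫ p) (π w) = x (H23.SpGysin.η R) := by
    rw [← Scheme.Hom.comp_apply, pullback.condition, Scheme.Hom.comp_apply, Scheme.Hom.comp_apply, hj]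
  have hpz : p z = x (H23.SpGysin.η R) := by
    refine eq_of_component hx ?_
    rw [← hv, ← hζ]
    exact ((hζgen (π w)).map (ι ≫ p).continuous)
  have hζw : ζ = π w := by
    refine FibDim.fibMax_of_baseChange h hmax ζ (hζgen _) ?_
    rw [hv, ← hpz, ← hζ]
    rfl
  rw [FibDim.rd_baseChange_eq_of_minimal h w fun v hv' _ h2 => hmax v hv' h2, ← hζw, rd_preimmersion_comp, hζ]
  have h1 := VarDim.topologicalKrullDim_closure_singleton (k := S.residueField (p z)) (p.fiberToSpecResidueField (p z))
    (p.asFiber z)
  rw [hr, FibDim.deg_fiber, Scheme.Hom.fiberι_asFiber] at h1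
  exact (by exact_mod_cast h1.symm)

end Groth.Agent.H9FlatEquidim
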