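import Groth.Agent.H9FlatEquidim.Basic
import Groth.Agent.H9FlatCl.Closure
import Mathlib.AlgebraicGeometry.Morphisms.Flat

/-! The flat closure over a discrete valuation ring is universally equidimensional. -/

set_option autoImplicit false
set_option linter.style.haveILetI false
set_option backward.isDefEq.respectTransparency false
set_option backward.isDefEq.respectTransparency.types false

universe u

open AlgebraicGeometry CategoryTheory CategoryTheory.Limits TopologicalSpace

namespace Groth.Agent.H9FlatEquidim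

open Groth.Agent

theorem image_equidim {Y W T : Scheme.{u}} {R : Type u} [CommRing R] [IsDomain R] [IsDiscreteValuationRing R]
    (g : W ⟶ Y) [IsOpenImmersion g] [QuasiCompact g] (b : Y ⟶ Spec (CommRingCat.of R)) [LocallyOfFiniteType b]
    [Flat (g ≫ b)] (hrange : ∀ y, b y = H23.SpGysin.η R → y ∈ Set.range g) (r : ℕ)
    (h : ∀ w, (∀ v, v ⤳ w → v = w) → FibDim.rd (g ≫ b) w = r) (t : T ⟶ Spec (CommRingCat.of R)) :
    (∀ w : ↥(pullback (g.imageι ≫ b) t), FlatMor.fibreDimAt (pullback.snd (g.imageι ≫ b) t) w = r) ∧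
      ∀ C ∈ irreducibleComponents ↥(pullback (g.imageι ≫ b) t),
        closure ((pullback.snd (g.imageι ≫ b) t).base '' C) ∈ irreducibleComponents ↥T := by
  haveI := H9FlatCl.isOpenImmersion_toImage g
  haveI : Flat (g.toImage ≫ g.imageι ≫ b) := by
    rw [Scheme.Hom.toImage_imageι_assoc]
    infer_instance
  haveI : Flat (g.imageι ≫ b) := SchClosure.flat_of_ker_eq_bot g.toImage _ (ker_eq_bot_toImage g)
  refine pullback_equidim (g.imageι ≫ b) t r fun ξ hξ => ?_
  obtain ⟨w, hw⟩ := hrange (g.imageι ξ) (map_maximal (g.imageι ≫ b) hξ)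
  obtain rfl : g.toImage w = ξ := g.imageι.isEmbedding.injective (by
    rw [← Scheme.Hom.comp_apply, Scheme.Hom.toImage_imageι]; exact hw)
  have hmax : ∀ v, v ⤳ w → v = w := fun v hv =>
    g.toImage.isOpenEmbedding.injective (hξ _ (hv.map g.toImage.continuous))
  rw [← rd_preimmersion_comp g.toImage (g.imageι ≫ b) w, ← h w hmax]
  exact congrArg (fun m => FibDim.rd m w) (Scheme.Hom.toImage_imageι_assoc g b)

theorem main {X S Z T : Scheme.{u}} [S.IsSeparated]
    (p : X ⟶ S) [LocallyOfFiniteType p] [QuasiCompact p] (z : X) (hz : closure ({p z} : Set S) ∈ irreducibleComponents ↥S)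
    (r : ℕ) (hr : topologicalKrullDim ↥(closure ({p.asFiber z} : Set ↥(p.fiber (p z)))) = r)
    (ι : Z ⟶ X) [IsClosedImmersion ι] (hZ : Set.range ι = closure {z})
    (R : Type u) [CommRing R] [IsDomain R] [IsDiscreteValuationRing R] (x : Spec (CommRingCat.of R) ⟶ S)
    (hx : closure ({x (H23.SpGysin.η R)} : Set S) ∈ irreducibleComponents ↥S)
    (g : pullback (ι ≫ p) (Spec.map (CommRingCat.ofHom (algebraMap R (FractionRing R))) ≫ x) ⟶ pullback (ι ≫ p) x)
    (hg : g = pullback.map (ι ≫ p) (Spec.map (CommRingCat.ofHom (algebraMap R (FractionRing R))) ≫ x) (ι ≫ p) x (𝟙 Z)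
      (Spec.map (CommRingCat.ofHom (algebraMap R (FractionRing R)))) (𝟙 S)
      ((Category.comp_id _).trans (Category.id_comp _).symm) (Category.comp_id _))
    (t : T ⟶ Spec (CommRingCat.of R)) :
    (∀ w : ↥(pullback (g.imageι ≫ pullback.snd (ι ≫ p) x) t),
      FlatMor.fibreDimAt (pullback.snd (g.imageι ≫ pullback.snd (ι ≫ p) x) t) w = r) ∧
      ∀ C ∈ irreducibleComponents ↥(pullback (g.imageι ≫ pullback.snd (ι ≫ p) x) t),
        closure ((pullback.snd (g.imageι ≫ pullback.snd (ι ≫ p) x) t).base '' C) ∈ irreducibleComponents ↥T := by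
  let j := Spec.map (CommRingCat.ofHom (algebraMap R (FractionRing R)))
  haveI : IsOpenImmersion j := H9FlatCl.isOpenImmersion_generic R
  haveI : IsOpenImmersion g := by rw [hg, pullback_map_eq_pullbackFstFstIso_inv]; infer_instance
  haveI : QuasiCompact g := by rw [hg, pullback_map_eq_pullbackFstFstIso_inv]; infer_instance
  have hgb : g ≫ pullback.snd (ι ≫ p) x = pullback.snd (ι ≫ p) (j ≫ x) ≫ j := by rw [hg]; exact pullback.lift_snd _ _ _
  haveI : Subsingleton ↥(Spec (CommRingCat.of (FractionRing R))) := FibDim.subsingleton_spec_field _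
  haveI : Flat (pullback.snd (ι ≫ p) (j ≫ x)) := inferInstance
  haveI : Flat (g ≫ pullback.snd (ι ≫ p) x) := by rw [hgb]; infer_instance
  have hjη : ∀ s, j s = H23.SpGysin.η R := fun s => PrimeSpectrum.ext (by
    rw [H23.SpGysin.η_asIdeal]
    have hs : (s : PrimeSpectrum (FractionRing R)).asIdeal = ⊥ :=
      (Ideal.eq_bot_or_top _).resolve_right (PrimeSpectrum.isPrime (s : PrimeSpectrum (FractionRing R))).ne_top
    show Ideal.comap (algebraMap R (FractionRing R)) (s : PrimeSpectrum (FractionRing R)).asIdeal = ⊥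
    rw [hs]
    exact (RingHom.injective_iff_ker_eq_bot _).1 (IsFractionRing.injective R (FractionRing R)))
  refine image_equidim g (pullback.snd (ι ≫ p) x) (fun y hy => ?_) r (fun w hw => ?_) t
  · rw [hg, Scheme.Pullback.range_map]
    refine ⟨⟨_, rfl⟩, ?_⟩
    show pullback.snd (ι ≫ p) x y ∈ Set.range j
    exact ⟨(⟨⊥, Ideal.isPrime_bot⟩ : PrimeSpectrum (FractionRing R)), by rw [hjη]; exact hy.symm⟩
  · rw [← rd_generic_closure p z hz r hr ι hZ x hx w hw, congrArg (fun m => FibDim.rd m w) hgb,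
      FibDim.rd_comp, rd_eq_zero_preimmersion j]
    exact Nat.zero_add _

end Groth.Agent.H9FlatEquidim
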