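import Groth.Agent.H9FlatEquidim.Basic
import Groth.Agent.BlowUpX.Basic
import Groth.Agent.BlowUpLib.Glue
import Groth.Agent.SectDimFP.Basic
import Groth.Prelude.Def_BlowUp2

/-! The strict transform by a blowing up that makes it flat is universally equidimensional. -/

set_option autoImplicit false
set_option linter.style.haveILetI false
set_option backward.isDefEq.respectTransparency false
set_option backward.isDefEq.respectTransparency.types false

universe u

open AlgebraicGeometry CategoryTheory CategoryTheory.Limits TopologicalSpace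

namespace Groth.Agent.H9FlatEquidim

open Groth.Agent

theorem closure_image_mem {W T : Scheme.{u}} (f : W ⟶ T) [Flat f] {C : Set ↥W}
    (hC : C ∈ irreducibleComponents ↥W) : closure (f '' C) ∈ irreducibleComponents ↥T := by
  have hCc : IsClosed C := isClosed_of_mem_irreducibleComponents C hC
  let ξ := hC.1.genericPoint
  have hξ : closure ({ξ} : Set ↥W) = C := by
    rw [hC.1.isGenericPoint_genericPoint_closure.def, hCc.closure_eq]
  have himg : closure (f '' C) = closure {f ξ} := by
    refine subset_antisymm (closure_minimal ?_ isClosed_closure) (closure_mono ?_)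
    · rintro _ ⟨c, hc, rfl⟩
      rw [← hξ] at hc
      exact specializes_iff_mem_closure.1 ((specializes_iff_mem_closure.2 hc).map f.continuous)
    · exact Set.singleton_subset_iff.2 ⟨ξ, hξ ▸ subset_closure rfl, rfl⟩
  rw [himg]
  refine ⟨isIrreducible_singleton.closure, fun T' hT hle => ?_⟩
  have hTη : f ξ ∈ closure T' := subset_closure (hle (subset_closure rfl))
  obtain ⟨ξ', hξ', hfξ'⟩ := CycLib.exists_generization f (hT.isGenericPoint_genericPoint_closure.specializes hTη)
  rw [eq_of_component (hξ.symm ▸ hC) hξ'] at hfξ'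
  intro t ht
  rw [hfξ']
  exact specializes_iff_mem_closure.1 (hT.isGenericPoint_genericPoint_closure.specializes (subset_closure ht))

/-- Points off `E` survive when dividing by the sections killed by powers of `E`. -/
theorem mem_range_subschemeι_of_notMem {P : Scheme.{u}} (E J : P.IdealSheafData)
    (hJ : ∀ (V : P.affineOpens) (a : Γ(P, V.1)), a ∈ J.ideal V → BlowUp.KilledByPowerNear E (Coh.structureModule P) V a)
    {y : P} (hy : y ∉ E.support) : y ∈ Set.range J.subschemeι := by
  rw [Scheme.IdealSheafData.range_subschemeι, SetLike.mem_coe, Scheme.IdealSheafData.mem_support_iff]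
  intro U
  rw [Scheme.mem_zeroLocus_iff]
  intro a ha hay
  have hyU : y ∈ U.1 := P.basicOpen_le a hay
  rw [Scheme.IdealSheafData.mem_support_iff_of_mem hyU, Scheme.mem_zeroLocus_iff] at hy
  push Not at hy
  obtain ⟨e, he, hye⟩ := hy
  obtain ⟨n, hn⟩ := hJ U a ha
  have hen : e ^ n ∈ (E ^ n).ideal U := by
    rw [Scheme.IdealSheafData.ideal_pow, Pi.pow_apply]
    exact Ideal.pow_mem_pow he n
  have h0 : e ^ n * a = 0 := hn (e ^ n) hen
  have h1 : y ∈ P.basicOpen (e ^ (n + 1) * a) := by
    rw [Scheme.basicOpen_mul, Scheme.basicOpen_pow P e n.succ_pos]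
    exact ⟨hye, hay⟩
  rw [pow_succ', mul_assoc, h0, mul_zero, Scheme.basicOpen_zero] at h1
  exact h1

/-- Fibrewise dimensions of a flat morphism over a locally Noetherian base are read off at the generic points. -/
theorem rd_fibMax_of_noetherian {W Y : Scheme.{u}} [IsLocallyNoetherian Y] (q : W ⟶ Y) [Flat q]
    [LocallyOfFiniteType q] (r : ℕ) (h : ∀ ξ, (∀ v, v ⤳ ξ → v = ξ) → FibDim.rd q ξ = r) (z : W)
    (hz : FibDim.FibMax q z) : FibDim.rd q z = r := by
  obtain ⟨ξ, hξz, hξ⟩ := exists_maximal_generization z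
  have hamax : ∀ a', a' ⤳ q ξ → a' = q ξ := fun a' ha' => by
    obtain ⟨ξ', hξ', rfl⟩ := CycLib.exists_generization q ha'
    rw [hξ ξ' hξ']
  rcases eq_or_ne (q z) (q ξ) with he | hne
  · rw [← hz ξ hξz he.symm]
    exact h ξ hξ
  obtain ⟨A, _, _, _, τ, hτc, hτη⟩ := SectDimFP.exists_dvr_lift_of_stalk (hξz.map q.continuous) hne
  let π := pullback.snd q τ
  let fstp := pullback.fst q τ
  have hsq := IsPullback.of_hasPullback q τ
  have hcomm : ∀ v, q (fstp v) = τ (π v) := fun v => by
    rw [← Scheme.Hom.comp_apply, pullback.condition, Scheme.Hom.comp_apply]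
  have hηc : (H23.SpGysin.η A : Spec (CommRingCat.of A)) ≠ IsLocalRing.closedPoint A := fun e => by
    have e' : (H23.SpGysin.η A : PrimeSpectrum A).asIdeal = (IsLocalRing.closedPoint A).asIdeal :=
      congrArg PrimeSpectrum.asIdeal e
    rw [H23.SpGysin.η_asIdeal] at e'
    exact IsDiscreteValuationRing.not_a_field A e'.symm
  have hgen : ∀ v, (∀ v', v' ⤳ v → v' = v) → FibDim.rd π v = r := fun v hv => by
    have hmax : FibDim.FibMax π v := FibDim.fibMax_of_maximal π hv
    have hu : q (fstp v) = q ξ := by rw [hcomm, map_maximal π hv, hτη _ hηc]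
    rw [FibDim.rd_baseChange_eq_of_minimal hsq v fun w hw _ h2 => hmax w hw h2]
    refine h _ fun u' hu' => FibDim.fibMax_of_baseChange hsq hmax u' hu' ?_
    rw [hu]
    exact hamax _ (hu ▸ hu'.map q.continuous)
  obtain ⟨x, hx1, hx2⟩ := Scheme.Pullback.exists_preimage_pullback (f := q) (g := τ) z (IsLocalRing.closedPoint A)
    hτc.symm
  obtain ⟨z', hz'x, hπz', hz', -⟩ := FibDim.exists_fibMax_generization π x
  have hfz : fstp z' = z := hz _ (hx1 ▸ hz'x.map fstp.continuous) (by
    rw [hcomm, hπz', show π x = IsLocalRing.closedPoint A from hx2, hτc])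
  have hr := rd_fibMax π r hgen z' hz'
  rw [FibDim.rd_baseChange_eq_of_minimal hsq z' fun w hw _ h2 => hz' w hw h2] at hr
  rw [← hfz]
  exact hr

theorem strict_main {X S Z S' S'' : Scheme.{u}} (p : X ⟶ S) [LocallyOfFiniteType p] (z : X)
    (r : ℕ) (hr : topologicalKrullDim ↥(closure ({p.asFiber z} : Set ↥(p.fiber (p z)))) = r)
    (ι : Z ⟶ X) [IsClosedImmersion ι] (hZ : Set.range ι = closure {z})
    [IsLocallyNoetherian S'] (𝓘 : S.IdealSheafData) (b : S' ⟶ S) (hb : BlowUp.IsBlowUp b 𝓘)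
    (𝒥 : (pullback (ι ≫ p) b).IdealSheafData)
    (h𝒥 : ∀ (V : (pullback (ι ≫ p) b).affineOpens) (a : Γ(pullback (ι ≫ p) b, V.1)), a ∈ 𝒥.ideal V →
      BlowUp.KilledByPowerNear ((𝓘.comap (ι ≫ p)).comap (pullback.fst (ι ≫ p) b)) (Coh.structureModule (pullback (ι ≫ p) b)) V a)
    [Flat (𝒥.subschemeι ≫ pullback.snd (ι ≫ p) b)] (g : S'' ⟶ S') :
    (∀ w : ↥(pullback (𝒥.subschemeι ≫ pullback.snd (ι ≫ p) b) g),
        FlatMor.fibreDimAt (pullback.snd (𝒥.subschemeι ≫ pullback.snd (ι ≫ p) b) g) w = r) ∧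
      ∀ C ∈ irreducibleComponents ↥(pullback (𝒥.subschemeι ≫ pullback.snd (ι ≫ p) b) g),
        closure ((pullback.snd (𝒥.subschemeι ≫ pullback.snd (ι ≫ p) b) g).base '' C) ∈ irreducibleComponents ↥S'' := by
  let q := 𝒥.subschemeι ≫ pullback.snd (ι ≫ p) b
  let π := pullback.fst (ι ≫ p) b
  let s := pullback.snd (ι ≫ p) b
  have hsq := IsPullback.of_hasPullback (ι ≫ p) b
  obtain ⟨ζ, hζ⟩ : z ∈ Set.range ι := hZ ▸ subset_closure rfl
  have hζgen : ∀ c, ζ ⤳ c := fun c => ι.isEmbedding.isInducing.specializes_iff.1 (by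
    rw [hζ]; exact specializes_iff_mem_closure.2 (hZ ▸ ⟨c, rfl⟩))
  have hgen : ∀ ξ, (∀ v, v ⤳ ξ → v = ξ) → FibDim.rd q ξ = r := fun ξ hξ => by
    let w := 𝒥.subschemeι ξ
    have hamax : ∀ a', a' ⤳ s w → a' = s w := fun a' ha' => by
      obtain ⟨ξ', hξ', rfl⟩ := CycLib.exists_generization q (show a' ⤳ q ξ from ha')
      rw [hξ ξ' hξ']
      rfl
    have haE : s w ∉ (𝓘.comap b).support := BlowUpX.notMem_support_of_generic hb.1 _ hamax
    rw [Scheme.IdealSheafData.support_comap] at haE
    have hcomm : ∀ y, (ι ≫ p) (π y) = b (s y) := fun y => by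
      rw [← Scheme.Hom.comp_apply, pullback.condition, Scheme.Hom.comp_apply]
    have hmax : FibDim.FibMax s w := fun y hy he => by
      have hyE : y ∉ ((𝓘.comap (ι ≫ p)).comap π).support := by
        rw [Scheme.IdealSheafData.support_comap, Scheme.IdealSheafData.support_comap]
        intro hmem
        refine haE ?_
        show b (s w) ∈ 𝓘.support
        rw [← he, ← hcomm]
        exact hmem
      obtain ⟨ξ', hξ'⟩ := mem_range_subschemeι_of_notMem _ 𝒥 h𝒥 hyE
      rw [← hξ', hξ ξ' (𝒥.subschemeι.isEmbedding.isInducing.specializes_iff.1 (hξ' ▸ hy))]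
    let U := ModPair.interior 𝓘
    have haU : s w ∈ b ⁻¹ᵁ U := haE
    haveI := BlowUpLib.isIso_restrict hb U le_rfl
    haveI : IsOpenImmersion ((b ⁻¹ᵁ U).ι ≫ b) := by rw [← morphismRestrict_ι]; infer_instance
    have hbmax : ∀ v, v ⤳ b (s w) → v = b (s w) := fun v hv => by
      obtain ⟨a', ha', rfl⟩ := CycLib.exists_generization ((b ⁻¹ᵁ U).ι ≫ b) (x := ⟨s w, haU⟩) (y := v) hv
      exact congrArg b (hamax _ (ha'.map (b ⁻¹ᵁ U).ι.continuous))
    have hpz : (ι ≫ p) ζ = (ι ≫ p) (π w) := by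
      rw [hcomm w]
      exact hbmax _ (hcomm w ▸ (hζgen (π w)).map (ι ≫ p).continuous)
    have hζw : ζ = π w := FibDim.fibMax_of_baseChange hsq hmax ζ (hζgen _) hpz
    show FibDim.rd (𝒥.subschemeι ≫ s) ξ = r
    rw [rd_preimmersion_comp, FibDim.rd_baseChange_eq_of_minimal hsq w fun v hv' _ h2 => hmax v hv' h2, ← hζw,
      rd_preimmersion_comp, hζ]
    have h1 := VarDim.topologicalKrullDim_closure_singleton (k := S.residueField (p z)) (p.fiberToSpecResidueField (p z))
      (p.asFiber z)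
    rw [hr, FibDim.deg_fiber, Scheme.Hom.fiberι_asFiber] at h1
    exact (by exact_mod_cast h1.symm)
  refine ⟨fibreDimAt_eq _ r fun w hw => ?_, fun C hC => closure_image_mem _ hC⟩
  rw [FibDim.rd_baseChange_eq_of_minimal (IsPullback.of_hasPullback q g) w fun v hv _ h2 => hw v hv h2]
  exact rd_fibMax_of_noetherian q r hgen _ (FibDim.fibMax_of_baseChange (IsPullback.of_hasPullback q g) hw)

end Groth.Agent.H9FlatEquidim
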